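import Cfsg.Agent.H7.Ou.Co1B
import Cfsg.Agent.H7.Ou.Co1C

set_option autoImplicit false
set_option maxRecDepth 100000

universe u

namespace CfsgH7.Co1.Ou

set_option Elab.async false

open CfsgH7.Co1

theorem hg : genW g1 [x, y, t] = ⊤ := M1.topS _ [[[34],[4,0,5,0,5,1,1,1,2,1,1,2,1,5,3,0,5,5,5,2,5,0,3,3,5,3]], [[36],[0,4,3,1,1,4,0,3,3,0,4,1,3,1,4,1,3,4,3,1,1,4,0,3,3,0,4,1,3,1,4,1,3,4,3,1,1,4,0,3,3,0,4,1,3,1,4,1,3,5,1,1,2,1,5,0,2,2,2,0,5,0,5,0,2,0,2,0,5,0,2,0,5,1,2,2,1,5,0,0,2,5,1,3,1,4,1,4,1,3,3,3,1,4,0,3,0,0,4,2,0,5,0,2,0,5,1,2,2,1,5,0,0,2,5,1,3,1,4,1,4,1,3,3,3,1,4,0,3,0,0,4,1,3,1,4,1,4,1,3,3,3,1,4,0,3,0,0,4,4,3,1,1,4,0,3,3,0,4,1,3,1,4,1,3,5,1,1,2,1,5,0,2,2,2,0,5,0,5,0,2]], [[38],[3,1,4,1,4,1,3,3,3,1,4,0,3,0,0,4,4,3,1,1,4,0,3,3,0,4,1,3,1,4,1,3,1,3,1,4,1,4,1,3,3,3,1,4,0,3,0,0,4,4,3,1,1,4,0,3,3,0,4,1,3,1,4,1,3,4,3,1,1,4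,0,3,3,0,4,1,3,1,4,1,3,5,1,1,2,1,5,0,2,2,2,0,5,0,5,0,2,0,4,3,1,1,4,0,3,3,0,4,1,3,1,4,1,3,4,3,1,1,4,0,3,3,0,4,1,3,1,4,1,3,5,1,1,2,1,5,0,2,2,2,0,5,0,5,0,2,0,4,3,1,1,4,0,3,3,0,4,1,3,1,4,1,3,1,3,1,4,1,4,1,3,3,3,1,4,0,3,0,0,4,2,0,5,0,2,0,5,1,2,2,1,5,0,0,2,5,1,3,1,4,1,4,1,3,3,3,1,4,0,3,0,0,4,4,3,1,1,4,0,3,3,0,4,1,3,1,4,1,3,5,1,1,2,1,5,0,2,2,2,0,5,0,5,0,2,0,2,0,5,0,2,0,5,1,2,2,1,5,0,0,2,5,5,1,1,2,1,5,0,2,2,2,0,5,0,5,0,2,0,4,3,1,1,4,0,3,3,0,4,1,3,1,4,1,3,4,3,1,1,4,0,3,3,0,4,1,3,1,4,1,3,4,3,1,1,4,0,3,3,0,4,1,3,1,4,1,3,1]], [[40],[9,10,8,11,11,9,9,10,9,9,10,10,9,10,8,10,9,9,10,10,9,10,8,10,8,10,10,9,10,8,10,8,8,8,11,9,11,8,11,11,9,9,9,9,11,9,11,8,11,11,9,9,10,8,11,11,9,9,10]]] [⟨5728, [[4],[0],[2]], [0,0,1,0,1,0,1,2,0,1,2,0,1,2,0,1,2,0,1,2,0,1,2,0,1,2,0,1,0], 98280⟩,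
  ⟨0, [[0],[2],[6]], [0,1,2,0,1,2,0,1,2,0,1,2,0,1,2,0,1], 4600⟩,
  ⟨1, [[0,5,1,1,2,1,5,0,2,2,2,0,5,0,5,0,2],[0,2,0,5,0,2,0,5,1,2,2,1,5,0,0,2,5,1]], [0,1,0,1,0,1,0,1,0,1,0,1,0,1,0,1,0,1,0,1,0,1,0,1,0], 20736⟩,
  ⟨2, [[8],[10]], [0,1,0,1,0,1,0,1,0,1,0,1,0,1], 176⟩,
  ⟨3, [[8,8,8],[8,10,10,9,10,8,10],[9,10,8,11,11,9,9,10]], [0,1,0,2,0,1,0,2,0,1,0,2,0,1,0,1,0,1], 1260⟩,
  ⟨4, [[12]], [0], 2⟩] 17 (by decide +kernel) (by decide +kernel)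
def RR : List (List Nat) := [[0,4,0,4,0,4,0,4,0,4,0,4,0,4,0,4,0,4,0,4,0,4,0,4,0,4,0,4,0,4,0,4,0,4,0,4,0,4,0,4,0,4],[0,2,4,0,2,4,0,2,4,0,2,4,0,2,4,0,2,4,0,2,4,0,2,4,0,2,4,0,2,4,0,2,4,0,2,4,0,2,4,0,2,4,0,2,4,0,2,4,0,2,4,0,2,4]]
theorem h4_1_0 : lall (fun u => candOk l1 bs RR [[x, y, t]] (powA x 1 []) y (powA y 0 u)) hyU = true := by
  decide +kernel
theorem h4_1_1 : lall (fun u => candOk l1 bs RR [[x, y, t]] (powA x 1 []) y (powA y 1 u)) hyU = true := by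
  decide +kernel
theorem h4_1_2 : lall (fun u => candOk l1 bs RR [[x, y, t]] (powA x 1 []) y (powA y 2 u)) hyU = true := by
  decide +kernel
theorem h4_1_3 : lall (fun u => candOk l1 bs RR [[x, y, t]] (powA x 1 []) y (powA y 3 u)) hyU = true := by
  decide +kernel
theorem h4_1_4 : lall (fun u => candOk l1 bs RR [[x, y, t]] (powA x 1 []) y (powA y 4 u)) hyU = true := by
  decide +kernel
theorem h4_1_5 : lall (fun u => candOk l1 bs RR [[x, y, t]] (powA x 1 []) y (powA y 5 u)) hyU = true := by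
  decide +kernel
theorem h4_1_6 : lall (fun u => candOk l1 bs RR [[x, y, t]] (powA x 1 []) y (powA y 6 u)) hyU = true := by
  decide +kernel
theorem h4_1_7 : lall (fun u => candOk l1 bs RR [[x, y, t]] (powA x 1 []) y (powA y 7 u)) hyU = true := by
  decide +kernel
theorem h4_1_8 : lall (fun u => candOk l1 bs RR [[x, y, t]] (powA x 1 []) y (powA y 8 u)) hyU = true := by
  decide +kernel
theorem h4_1_9 : lall (fun u => candOk l1 bs RR [[x, y, t]] (powA x 1 []) y (powA y 9 u)) hyU = true := by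
  decide +kernel
theorem h4_1_10 : lall (fun u => candOk l1 bs RR [[x, y, t]] (powA x 1 []) y (powA y 10 u)) hyU = true := by
  decide +kernel
theorem h4_5_0 : lall (fun u => candOk l1 bs RR [[x, y, t]] (powA x 5 []) y (powA y 0 u)) hyU = true := by
  decide +kernel
theorem h4_5_1 : lall (fun u => candOk l1 bs RR [[x, y, t]] (powA x 5 []) y (powA y 1 u)) hyU = true := by
  decide +kernel
theorem h4_5_2 : lall (fun u => candOk l1 bs RR [[x, y, t]] (powA x 5 []) y (powA y 2 u)) hyU = true := by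
  decide +kernel
theorem h4_5_3 : lall (fun u => candOk l1 bs RR [[x, y, t]] (powA x 5 []) y (powA y 3 u)) hyU = true := by
  decide +kernel
theorem h4_5_4 : lall (fun u => candOk l1 bs RR [[x, y, t]] (powA x 5 []) y (powA y 4 u)) hyU = true := by
  decide +kernel
theorem h4_5_5 : lall (fun u => candOk l1 bs RR [[x, y, t]] (powA x 5 []) y (powA y 5 u)) hyU = true := by
  decide +kernel
theorem h4_5_6 : lall (fun u => candOk l1 bs RR [[x, y, t]] (powA x 5 []) y (powA y 6 u)) hyU = true := by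
  decide +kernel
theorem h4_5_7 : lall (fun u => candOk l1 bs RR [[x, y, t]] (powA x 5 []) y (powA y 7 u)) hyU = true := by
  decide +kernel
theorem h4_5_8 : lall (fun u => candOk l1 bs RR [[x, y, t]] (powA x 5 []) y (powA y 8 u)) hyU = true := by
  decide +kernel
theorem h4_5_9 : lall (fun u => candOk l1 bs RR [[x, y, t]] (powA x 5 []) y (powA y 9 u)) hyU = true := by
  decide +kernel
theorem h4_5_10 : lall (fun u => candOk l1 bs RR [[x, y, t]] (powA x 5 []) y (powA y 10 u)) hyU = true := by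
  decide +kernel
theorem h4 : lall (fun i => nall (fun m => lall (fun u => candOk l1 bs RR [[x, y, t]] (powA x i []) y (powA y m u)) hyU) 11)
    [1,5] = true := by
  refine lall_cons' ?_ (lall_cons' ?_ (lall_nil')) <;> refine nall_iff.2 fun m hm => ?_ <;> interval_cases m
  exacts [h4_1_0, h4_1_1, h4_1_2, h4_1_3, h4_1_4, h4_1_5, h4_1_6, h4_1_7, h4_1_8, h4_1_9, h4_1_10, h4_5_0, h4_5_1, h4_5_2, h4_5_3, h4_5_4, h4_5_5, h4_5_6, h4_5_7, h4_5_8, h4_5_9, h4_5_10]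
theorem ha : ∀ α : MulAut G0, ∃ c : G0, ∃ S ∈ [[x, y, t]], ∀ j < 3,
    (MulAut.conj c * α) (wprod g1 (wordAt [x, y, t] j)) = wprod g1 (wordAt S j) :=
  M1.aut3 x y t 23 2 11 1 1 [1,5] hyU RR _ (by norm_num) (by norm_num) (by norm_num) hx hy
    (by decide +kernel) (by decide +kernel) (by decide +kernel) h4
theorem out0 : Nat.card (Cfsg.Out G0) = 1 := out_one hg ha
theorem out : Nat.card (Cfsg.Out Cfsg.Spor.Co1) = 1 := iso.elim fun e _ => out_congr e ▸ out0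

end CfsgH7.Co1.Ou

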