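import Cfsg.Agent.H7.Mult3
import Cfsg.Agent.H7.OutG
import Cfsg.Agent.H7.Lee.Co1
import Cfsg.Agent.H7.Ou.Co1AN0
import Cfsg.Agent.H7.Ou.Co1AN1
import Cfsg.Agent.H7.Ou.Co1AN2

set_option autoImplicit false
set_option maxRecDepth 100000

universe u

namespace CfsgH7.Co1.Ou

set_option Elab.async false

open CfsgH7.Co1

noncomputable def l2 : List Net := [e0, e1, e2, e3, e4, e5, e6, e7, e8, e9, e10, e11, e12, e13, e14, e15, e16]
def U1 : List (List Nat) := [[0,0,0,0,5,5,0,0,0,0,4,4,1,1],[0,0,0,4,1,1,4,1,1,4,1,5,1,1,4],[5,1,1,5,0,0,5,1,1,4,0,4,4,1],[4,2,6,0,6,0,0,6,0,6,0,0,2,4,2,6,0,6,0,0,6,0,6,0,0,2],[14,12,2,9],[12,8,8,17,5,2,8,2,14,8,2,4,16,9,9,12,8,2,14,8,8,2,14,8,12,2,4,16,9,9,12,8,2,14,8,12,17,14,16,8,2,14,8,8,8,17,5,2],[14,9,2,9,2,9,2,14,17,4,14,12,14,5,16,19,5,8,2,9,5,14,8,14,16,19,14,9,2,9,2,9,2,14,19,14,9,2,9,2,9,2,14,17,4,14,12,14,5,16,14,2,8,2,8,2,8,14,5,8,2,9,5,14,8,14,16,14,2,8,2,8,2,8,14],[14,9,2,9,2,9,2,14,18,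17,14,9,14,4,8,2,9,4,17,4,14,12,14,5,16,14,9,2,9,2,9,2,14,17,4,14,12,14,5,16,12,9,4,11,5,5,14,12,8,5,14,2,8,2,8,2,8,14,19,12,9,4,11,5,5,14,12,8,5,5,8,2,9,5,14,8,14,16,12,9,4,11,5,5,14,12,8,5],[17,4,14,12,14,5,16,18,4,9,12,14,4,4,10,5,8,12,5,8,2,9,5,14,8,14,16,19,14,2,8,2,8,2,8,14,5,8,2,9,5,14,8,14,16,14,2,8,2,8,2,8,14,18,12,9,4,11,5,5,14,12,8,5,14,9,2,9,2,9,2,14],[14,4,18,4,17,4,14,12,14,5,14,16,8,8,17,5,2,24,17,14,16,24,17,4,14,12,14,5,16,20,19,24,17,4,14,12,14,5,16,22,24,20],[9,26,14,27,8,27,27,27,27,9,26,14,27,8,26,9,26,14,27,8,26,26,9,26,14,27,8,27,27,9,26,14,27,8,27,9,26,14,27,8,27,27],[22,28,20,2,6,14,26,29,29,29,26,26,26,26,26,8,5,27,27,27,27,27,28,28,28,27,1,12,0,26,1,12,0,9,26,14,27,8,28,27,27,27,27,28,28,28,27,9,26,14,27,8,28,26,28,26,29,29,29,26,26,26,26,26],[24,17,5,1,26,1,12,0,16,12,18,14,19,28,1,12,0,9,26,14,27,8,29,29,29,26,26,26,26,9,26,14,27,8,29,29,26,26,26,29,29,29,26,26,26,26,26],[32,16,33,16,33,17,17,1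7,26,17,17,26,17,33,27,16,33,33,33,26,33,16,27,27,33,27],[16,32,27,17,17,32,16,27,27,16,32,17,27,17,32,17,27,32,27,17,17,32,16,27,27,16,32,17,27,17,32,17,27,32,27,17,17,32,16,27,27,16,32,17,27,17,32,17,27,33,17,17,26,17,33,16,26,26,26,16,33,16,33,16,26,16,26,16,33,16,26,16,33,17,26,26,17,33,16,16,26,33,17,27,17,32,17,32,17,27,27,27,17,32,16,27,16,16,32,26,16,33,16,26,16,33,17,26,26,17,33,16,16,26,33,17,27,17,32,17,32,17,27,27,27,17,32,16,27,16,16,32,17,27,17,32,17,32,17,27,27,27,17,32,16,27,16,16,32,32,27,17,17,32,16,27,27,16,32,17,27,17,32,17,27,33,17,17,26,17,33,16,26,26,26,16,33,16,33,16,26],[27,17,32,17,32,17,27,27,27,17,32,16,27,16,16,32,32,27,17,17,32,16,27,27,16,32,17,27,17,32,17,27,17,27,17,32,17,32,17,27,27,27,17,32,16,27,16,16,32,32,27,17,17,32,16,27,27,16,32,17,27,17,32,17,27,32,27,17,17,32,16,27,27,16,32,17,27,17,32,17,27,33,17,17,26,17,33,16,26,26,26,16,33,16,33,16,26,16,32,27,17,17,32,16,27,27,16,32,17,27,17,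32,17,27,32,27,17,17,32,16,27,27,16,32,17,27,17,32,17,27,33,17,17,26,17,33,16,26,26,26,16,33,16,33,16,26,16,32,27,17,17,32,16,27,27,16,32,17,27,17,32,17,27,17,27,17,32,17,32,17,27,27,27,17,32,16,27,16,16,32,26,16,33,16,26,16,33,17,26,26,17,33,16,16,26,33,17,27,17,32,17,32,17,27,27,27,17,32,16,27,16,16,32,32,27,17,17,32,16,27,27,16,32,17,27,17,32,17,27,33,17,17,26,17,33,16,26,26,26,16,33,16,33,16,26,16,26,16,33,16,26,16,33,17,26,26,17,33,16,16,26,33,33,17,17,26,17,33,16,26,26,26,16,33,16,33,16,26,16,32,27,17,17,32,16,27,27,16,32,17,27,17,32,17,27,32,27,17,17,32,16,27,27,16,32,17,27,17,32,17,27,32,27,17,17,32,16,27,27,16,32,17,27,17,32,17,27,17],[37,38,36,39,39,37,37,38,37,37,38,38,37,38,36,38,37,37,38,38,37,38,36,38,36,38,38,37,38,36,38,36,36,36,39,37,39,36,39,39,37,37,37,37,39,37,39,36,39,39,37,37,38,36,39,39,37,37,38]]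
noncomputable abbrev l1 : List Net := l ++ l2
theorem ag0 : band (lall (fun a => Nat.blt a (2 * (l.length + 0))) (wordAt U1 0))
    (agreeS l1 l1 98280 17 (wordAt U1 0) [2 * (l.length + 0)]) = true := by decide +kernel
theorem ag1 : band (lall (fun a => Nat.blt a (2 * (l.length + 1))) (wordAt U1 1))
    (agreeS l1 l1 98280 17 (wordAt U1 1) [2 * (l.length + 1)]) = true := by decide +kernel
theorem ag2 : band (lall (fun a => Nat.blt a (2 * (l.length + 2))) (wordAt U1 2))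
    (agreeS l1 l1 98280 17 (wordAt U1 2) [2 * (l.length + 2)]) = true := by decide +kernel
theorem ag3 : band (lall (fun a => Nat.blt a (2 * (l.length + 3))) (wordAt U1 3))
    (agreeS l1 l1 98280 17 (wordAt U1 3) [2 * (l.length + 3)]) = true := by decide +kernel
theorem ag4 : band (lall (fun a => Nat.blt a (2 * (l.length + 4))) (wordAt U1 4))
    (agreeS l1 l1 98280 17 (wordAt U1 4) [2 * (l.length + 4)]) = true := by decide +kernel
theorem ag5 : band (lall (fun a => Nat.blt a (2 * (l.length + 5))) (wordAt U1 5))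
    (agreeS l1 l1 98280 17 (wordAt U1 5) [2 * (l.length + 5)]) = true := by decide +kernel
theorem ag6 : band (lall (fun a => Nat.blt a (2 * (l.length + 6))) (wordAt U1 6))
    (agreeS l1 l1 98280 17 (wordAt U1 6) [2 * (l.length + 6)]) = true := by decide +kernel
theorem ag7 : band (lall (fun a => Nat.blt a (2 * (l.length + 7))) (wordAt U1 7))
    (agreeS l1 l1 98280 17 (wordAt U1 7) [2 * (l.length + 7)]) = true := by decide +kernel
theorem ag8 : band (lall (fun a => Nat.blt a (2 * (l.length + 8))) (wordAt U1 8))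
    (agreeS l1 l1 98280 17 (wordAt U1 8) [2 * (l.length + 8)]) = true := by decide +kernel
theorem ag9 : band (lall (fun a => Nat.blt a (2 * (l.length + 9))) (wordAt U1 9))
    (agreeS l1 l1 98280 17 (wordAt U1 9) [2 * (l.length + 9)]) = true := by decide +kernel
theorem ag10 : band (lall (fun a => Nat.blt a (2 * (l.length + 10))) (wordAt U1 10))
    (agreeS l1 l1 98280 17 (wordAt U1 10) [2 * (l.length + 10)]) = true := by decide +kernel
theorem ag11 : band (lall (fun a => Nat.blt a (2 * (l.length + 11))) (wordAt U1 11))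
    (agreeS l1 l1 98280 17 (wordAt U1 11) [2 * (l.length + 11)]) = true := by decide +kernel
theorem ag12 : band (lall (fun a => Nat.blt a (2 * (l.length + 12))) (wordAt U1 12))
    (agreeS l1 l1 98280 17 (wordAt U1 12) [2 * (l.length + 12)]) = true := by decide +kernel
theorem ag13 : band (lall (fun a => Nat.blt a (2 * (l.length + 13))) (wordAt U1 13))
    (agreeS l1 l1 98280 17 (wordAt U1 13) [2 * (l.length + 13)]) = true := by decide +kernel
theorem ag14 : band (lall (fun a => Nat.blt a (2 * (l.length + 14))) (wordAt U1 14))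
    (agreeS l1 l1 98280 17 (wordAt U1 14) [2 * (l.length + 14)]) = true := by decide +kernel
theorem ag15 : band (lall (fun a => Nat.blt a (2 * (l.length + 15))) (wordAt U1 15))
    (agreeS l1 l1 98280 17 (wordAt U1 15) [2 * (l.length + 15)]) = true := by decide +kernel
theorem ag16 : band (lall (fun a => Nat.blt a (2 * (l.length + 16))) (wordAt U1 16))
    (agreeS l1 l1 98280 17 (wordAt U1 16) [2 * (l.length + 16)]) = true := by decide +kernel
theorem ex1 : ∃ g' : Nat → G0, Md (finPt 98280) 98280 g' l1 4 4157776806543360000 bs :=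
  M0.slp 17 l2 U1 (by decide +kernel) (show ∀ j < 17, _ from by
  intro j hj
  interval_cases j
  · exact ag0
  · exact ag1
  · exact ag2
  · exact ag3
  · exact ag4
  · exact ag5
  · exact ag6
  · exact ag7
  · exact ag8
  · exact ag9
  · exact ag10
  · exact ag11
  · exact ag12
  · exact ag13
  · exact ag14
  · exact ag15
  · exact ag16)
noncomputable def g1 : Nat → G0 := ex1.choose
theorem M1 : Md (finPt 98280) 98280 g1 l1 4 4157776806543360000 bs := ex1.choose_spec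
def x : List Nat := [16]
def y : List Nat := [26]
def t : List Nat := [32]

end CfsgH7.Co1.Ou

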