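import Cfsg.Agent.H7.Mult3
import Cfsg.Agent.H7.OutG
import Cfsg.Agent.H7.Lee.Sub

set_option autoImplicit false
set_option maxRecDepth 100000

universe u

namespace CfsgH7.HS.Ou

open CfsgH7.HS
open scoped Pointwise

noncomputable def e0 : Net := (Net.cons (nat_lit 64) (nat_lit 0x2127f74f9cb14d) (Net.cons (nat_lit 32) (nat_lit 0x5b422a9f00000000765a2c42) (Net.cons (nat_lit 16) (nat_lit 0x2806000086c600007c400000e9e0) (Net.cons (nat_lit 8) (nat_lit 0x2100fa00300069004e003c00180043) (Net.cons (nat_lit 4) (nat_lit 0x9060f00080c0601030000090b020b0c) (Net.cons (nat_lit 2) (nat_lit 0x210002002212303122003223210200) (Net.cons (nat_lit 1) (nat_lit 0x41415401140101505114440441015004) (Net.cons (nat_lit 2) (nat_lit 0x20200202020000000222000222020000) (Net.cons (nat_lit 4) (nat_lit 0x800080008000e04020800080e000000) (Net.cons (nat_lit 8) (nat_lit 0x6000f00014004c004c007800140002) (Net.cons (nat_lit 16) (nat_lit 0x23460000a2460000c84000007b4c)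 (Net.cons (nat_lit 32) (nat_lit 0x5b620b500000000032c4e444) (Net.cons (nat_lit 64) (nat_lit 0x2127f3155377a2) Net.nil)))))))))))))

noncomputable def e1 : Net := (Net.cons (nat_lit 64) (nat_lit 0x5aaf45c345162702) (Net.cons (nat_lit 32) (nat_lit 0x23004909000000004615a028) (Net.cons (nat_lit 16) (nat_lit 0x2947000011d20000046400009f1c) (Net.cons (nat_lit 8) (nat_lit 0xc200c200f300200057005000820002) (Net.cons (nat_lit 4) (nat_lit 0x10202000404020c04040e00010c0a08) (Net.cons (nat_lit 2) (nat_lit 0x2212001112122231001020001020132) (Net.cons (nat_lit 1) (nat_lit 0x41450400141154055001140411441541) (Net.cons (nat_lit 2) (nat_lit 0x2200200022202000000000020020002) (Net.cons (nat_lit 4) (nat_lit 0x40600020804060800080c0800) (Net.cons (nat_lit 8) (nat_lit 0xc000c600b800320056005000880012) (Net.cons (nat_lit 16) (nat_lit 0x60400000978e0000a47400000a7c) (Net.cons (nat_lit 32) (nat_lit 0x630249c000000000e215922c)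 (Net.cons (nat_lit 64) (nat_lit 0x5aaf45c570788800) Net.nil)))))))))))))

noncomputable def e2 : Net := (Net.cons (nat_lit 64) (nat_lit 0xbcbf788cb7f7375d) (Net.cons (nat_lit 32) (nat_lit 0xb4315dd100000000ef63fc30) (Net.cons (nat_lit 16) (nat_lit 0x1c090000bfca0000f55c0000012c) (Net.cons (nat_lit 8) (nat_lit 0x1e00840052009600830041003c005e) (Net.cons (nat_lit 4) (nat_lit 0x800050902020409030d080001000e08) (Net.cons (nat_lit 2) (nat_lit 0x22013230002021323110022011203002) (Net.cons (nat_lit 1) (nat_lit 0x10140110101544414444454014101001) (Net.cons (nat_lit 2) (nat_lit 0x20000220202002002000202002200002) (Net.cons (nat_lit 4) (nat_lit 0xa000c08020e0c0a0408040002000a08) (Net.cons (nat_lit 8) (nat_lit 0xa2008400d0007800ba0000006c00dc) (Net.cons (nat_lit 16) (nat_lit 0x3c80000045cc0000d81c000000e0) (Net.cons (nat_lit 32) (nat_lit 0x20986d5800000000ee637d10) (Net.cons (nat_lit 64) (nat_lit 0xbcbf78846bb08980)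 Net.nil)))))))))))))

noncomputable def e3 : Net := (Net.cons (nat_lit 64) (nat_lit 0x6621003d141fed3e) (Net.cons (nat_lit 32) (nat_lit 0x2a3901470000000088a9b72f) (Net.cons (nat_lit 16) (nat_lit 0x417e0000e1cb0000e2a50000ba1c) (Net.cons (nat_lit 8) (nat_lit 0x2d0040008a005100a7006800be00d8) (Net.cons (nat_lit 4) (nat_lit 0x40c000500020a090603080c060c090d) (Net.cons (nat_lit 2) (nat_lit 0x20210003022001121122010210303323) (Net.cons (nat_lit 1) (nat_lit 0x41110001140104155411444150004114) (Net.cons (nat_lit 2) (nat_lit 0x20000002000002000202200000002022) (Net.cons (nat_lit 4) (nat_lit 0x40800040402060c000808040e080a08) (Net.cons (nat_lit 8) (nat_lit 0x280040002800d2006c00600030000a) (Net.cons (nat_lit 16) (nat_lit 0x416e000083ca00006be000000b18) (Net.cons (nat_lit 32) (nat_lit 0x81901440000000081b99a28) (Net.cons (nat_lit 64) (nat_lit 0x6621003e1c1bed1a) Net.nil)))))))))))))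

noncomputable def e4 : Net := (Net.cons (nat_lit 64) (nat_lit 0x90001983008000) (Net.cons (nat_lit 32) (nat_lit 0x1892000c00000000eb20a512) (Net.cons (nat_lit 16) (nat_lit 0x1094000024b000005dfe00000b43) (Net.cons (nat_lit 8) (nat_lit 0x100008008800540035002000ab0056) (Net.cons (nat_lit 4) (nat_lit 0x800080a0a010407080c06060004060d) (Net.cons (nat_lit 2) (nat_lit 0x20022002232030100102202320032230) (Net.cons (nat_lit 1) (nat_lit 0x10041011050010410401144541014151) (Net.cons (nat_lit 2) (nat_lit 0x20022002000020220000202020000202) (Net.cons (nat_lit 4) (nat_lit 0x800080a0a00040c0008040000080204) (Net.cons (nat_lit 8) (nat_lit 0x100008008800800004002000a80054) (Net.cons (nat_lit 16) (nat_lit 0x1094000024b000005dfe00008904) (Net.cons (nat_lit 32) (nat_lit 0x1892000c000000006b21ac94) (Net.cons (nat_lit 64) (nat_lit 0x90001983008000) Net.nil)))))))))))))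

noncomputable def e5 : Net := (Net.cons (nat_lit 64) (nat_lit 0xf92041367181c000) (Net.cons (nat_lit 32) (nat_lit 0x9da11c900000000041720080) (Net.cons (nat_lit 16) (nat_lit 0x10000000b9080000e64000009a76) (Net.cons (nat_lit 8) (nat_lit 0x600065000800aa007000c600a00080) (Net.cons (nat_lit 4) (nat_lit 0x9020c0e000200000e040a0200030606) (Net.cons (nat_lit 2) (nat_lit 0x3000220010020320302122000101) (Net.cons (nat_lit 1) (nat_lit 0x4410010411001501540544000400010) (Net.cons (nat_lit 2) (nat_lit 0x220000000020002000000000) (Net.cons (nat_lit 4) (nat_lit 0x8020c02000200000e040a0200000406) (Net.cons (nat_lit 8) (nat_lit 0x600064000800aa0070008400a00000) (Net.cons (nat_lit 16) (nat_lit 0x10000000b9080000e64000008a72) (Net.cons (nat_lit 32) (nat_lit 0x9d811c900000000041720080) (Net.cons (nat_lit 64) (nat_lit 0xf92041367181c000) Net.nil)))))))))))))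

noncomputable def l1 : List Net := l ++ [e0, e1, e2, e3, e4, e5]
def U1 : List (List Nat) := [[0],[2],[4],[6],[0],[3,1,3,1],[1,4,3,6,0,4,3,6,2,4,0],[1,1,3,1,3,1,3,1,3,1],[0,0,6,0,0,2,6,4,6,0,4,2],[1,6,1,4,2,6,3,4,0,6,0]]
noncomputable abbrev g1 : Nat → Cfsg.Spor.HS := fun j => wprod g (wordAt U1 j)
theorem ag0 : agreeS l l1 100 7 (wordAt U1 0) [2 * 0] = true := by decide +kernel
theorem ag1 : agreeS l l1 100 7 (wordAt U1 1) [2 * 1] = true := by decide +kernel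
theorem ag2 : agreeS l l1 100 7 (wordAt U1 2) [2 * 2] = true := by decide +kernel
theorem ag3 : agreeS l l1 100 7 (wordAt U1 3) [2 * 3] = true := by decide +kernel
theorem ag4 : agreeS l l1 100 7 (wordAt U1 4) [2 * 4] = true := by decide +kernel
theorem ag5 : agreeS l l1 100 7 (wordAt U1 5) [2 * 5] = true := by decide +kernel
theorem ag6 : agreeS l l1 100 7 (wordAt U1 6) [2 * 6] = true := by decide +kernel
theorem ag7 : agreeS l l1 100 7 (wordAt U1 7) [2 * 7] = true := by decide +kernel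
theorem ag8 : agreeS l l1 100 7 (wordAt U1 8) [2 * 8] = true := by decide +kernel
theorem ag9 : agreeS l l1 100 7 (wordAt U1 9) [2 * 9] = true := by decide +kernel
theorem M1 : Md pt 100 g1 l1 4 44352000 bs := M0.ext 7 l1 U1 (by decide +kernel) (show ∀ j < 10, _ from by
  intro j hj
  interval_cases j
  · exact ag0
  · exact ag1
  · exact ag2
  · exact ag3
  · exact ag4
  · exact ag5
  · exact ag6
  · exact ag7
  · exact ag8
  · exact ag9)
noncomputable def s : Net := (Net.cons (nat_lit 64) (nat_lit 0xc3901bde5f16ed14) (Net.cons (nat_lit 32) (nat_lit 0x8034de3a0000000002602019) (Net.cons (nat_lit 16) (nat_lit 0x95c800001c1c00003e4d000090ed) (Net.cons (nat_lit 8) (nat_lit 0xcc006000fe0026002400e000a300ff) (Net.cons (nat_lit 4) (nat_lit 0x5040206080800050400060f04010a07) (Net.cons (nat_lit 2) (nat_lit 0x23200201330200202002101223122320) (Net.cons (nat_lit 1) (nat_lit 0x10400140140101414001140010414154) (Net.cons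 (nat_lit 2) (nat_lit 0x20000220200000002000000000220000) (Net.cons (nat_lit 4) (nat_lit 0x60c0a000e0400000400040204) (Net.cons (nat_lit 8) (nat_lit 0x98006000bc0024000000a20002007c) (Net.cons (nat_lit 16) (nat_lit 0x95680000261c00001a440000ece0) (Net.cons (nat_lit 32) (nat_lit 0xc124ce74000000002a2cc012) (Net.cons (nat_lit 64) (nat_lit 0xc3901bd0fdc9d750) Net.nil)))))))))))))

def x : List Nat := [8]
def y : List Nat := [10]
def t : List Nat := [12]
def cxC : List Lvl := [⟨4, [[4],[6],[8],[12],[14]], [0,1,3,2,4,3,2,3,1,0], 100⟩,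
  ⟨14, [[0],[12,12,2,16,18],[2],[14]], [0,3,0,2,0,1,0,2,0,3,0], 77⟩,
  ⟨73, [[10],[18,4,18],[4,0,4,1,4],[3,0,4,1,2,6,1,2,6]], [0,0,0,1,0,2,0,0,0,0,3,0], 60⟩,
  ⟨17, [[16,0,6,1,16],[2,4,3,10,4,10],[3,4,16,4,1,10]], [0,1,2,0,2,1,0], 32⟩,
  ⟨6, [[12,16,10,14,13,4,14]], [0,0], 3⟩]
def cxM : List (List Nat) := [[0xbdf6d7aeedff3f5e6f67ff7ef],
  [0xa5e4d62ee5ff335e6e66715eb],
  [0x4c0d20a2149204e6e40604e8],
  [],
  []]
def cxZ : List Nat := [0xfffffffffffffffffffffffff]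
theorem cxL : LvOk Cfsg.Spor.HS pt 100 [] (mkLV cxC cxM) := M1.lvOk cxC 7 cxM (by decide +kernel) (by decide +kernel)
noncomputable def hxT : Bt := (.br 0 [] [] (Bt.ofL [(4, [], (.br 0 [[0]] [0,0,0,0,0,0,0,0,0,0] (Bt.deads [[0,0,1,0,2,12,12,2,16,18],
 [1,0,0,0,12,12,2,16,18,14,0],
 [21,0,1,0,18,4,18,1],
 [57,0,0,0,18,16,3,13,13,1],
 [56,0,3,0,18,16,3,13,13,3]] (Bt.ofL [(14, [], (.step 0 0 [] (.step 0 0 [] (.step 0 0 [] (.leaf 0))))),
 (19, [18,16,3,13,13], (.step 0 0 [10,18,4,18] (.dead 0 1 0)))]))))]))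
theorem hx : Subgroup.centralizer {z | ∃ w ∈ [x], wprod g1 w = z} = genW g1 [x] :=
  M1.cen cxL _ [[0],[0,0],[0,0,0],[0,0,0,0],[0,0,0,0,0],[0,0,0,0,0,0],[1]] _ 1 7 cxZ hxT (by decide +kernel) (by decide +kernel)
def cyC : List Lvl := [⟨78, [[0],[2],[6],[12],[14],[16]], [0,1,2,5,0,3,4,0,3], 100⟩,
  ⟨42, [[0,4,1],[0,16,11],[12],[6,4,6]], [0,2,2,1,2,2,0,2,2,1,2,2,3], 77⟩,
  ⟨97, [[0,4,18,0,4],[1,3,6,2,0],[6,3,6,2,6]], [0,2,0,1,2,1], 16⟩,
  ⟨33, [[6,4,6],[3,4,0,4,1,4,2],[6,0,3,4,2,1,6]], [0,1,0,2], 6⟩,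
  ⟨89, [[14,12,18,13,15],[6,0,3,4,2,1,6],[1,4,2,0,2,6,1,2,0,6]], [0,1,0,2], 6⟩,
  ⟨4, [[12],[0,3,6,4,0,4,1,4,6,2,1]], [0,0,0,0,1], 10⟩]
def cyM : List (List Nat) := [[0xdff6f3dde7f7f3f9dac7fffd5, 0x2009082218080c0625380002a],
  [],
  [],
  [],
  [0x1100000800002088028004010],
  []]
def cyZ : List Nat := [0xfffffffffffffffffffffffff]
theorem cyL : LvOk Cfsg.Spor.HS pt 100 [] (mkLV cyC cyM) := M1.lvOk cyC 7 cyM (by decide +kernel) (by decide +kernel)
noncomputable def hyT : Bt := (.br 0 [[0]] [0,0,0,0] (Bt.deads [[0,0,0,0,15],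
 [99,0,1,1,1,15],
 [2,0,1,1,13,16],
 [3,0,1,1,12,0],
 [5,0,1,1,1],
 [6,0,1,1,2,12,0],
 [9,0,1,1,10,0],
 [54,0,1,1,14,0],
 [11,0,1,1,4,16],
 [13,0,1,1,16,4],
 [21,0,1,1,2,2],
 [24,0,1,1,13,0],
 [29,0,0,0,14],
 [30,0,1,1,13,14,2],
 [50,0,1,1,4],
 [70,0,1,1,16],
 [84,0,1,1,12,1]] (Bt.ofL [(78, [], (.step 0 0 [] (.step 0 0 [] (.step 0 0 [] (.step 0 0 [] (.br 0 [] [] (Bt.ofL [(4, [], (.leaf 0)),
 (14, [12], (.leaf 1)),
 (27, [12,12], (.leaf 2)),
 (43, [13,13], (.leaf 3)),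
 (96, [13], (.leaf 4))]))))))),
 (8, [18], (.step 0 0 [0,3,6,4,0,4,1,4,6,2,1,13,0,4,1] (.step 0 0 [4,1,18,4,1] (.step 0 0 [6,4,6] (.step 0 0 [1,4,2,0,2,6,1,2,0,6,14,12,18,13,15] (.br 0 [] [] .nil))))))])))
def hyU : List (List Nat) := [[],[12],[12,12],[12,12,12],[13]]
theorem hy : ∀ c : Cfsg.Spor.HS, (∀ i, c * wprod g1 (wordAt [powA y 1 []] i) = wprod g1 (wordAt [powA y 1 []] i) * c) →
    ∃ κ ∈ genW g1 [y], ∃ u ∈ hyU, c = κ * wprod g1 u :=
  M1.srch cyL _ _ [[0],[0,0],[0,0,0],[0,0,0,0],[1]] _ _ 1 7 cyZ hyT (by decide +kernel) (by decide +kernel)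
theorem hg : genW g1 [x, y, t] = ⊤ := M1.top _ [⟨0, [[0],[2],[4]], [0,1,0,1,2,0,2,0,1,0,2], 100⟩,
  ⟨1, [[2,5],[0,0,2,4,0]], [0,0,0,1,0,0,1,0,0,1,0,0,0], 77⟩,
  ⟨2, [[0,3,0,4,1,3],[2,5,1,5,3,1,1,2,5,1,5,3,1,1]], [0,0,0,0,1], 6⟩,
  ⟨3, [[2,4,1,2,4,4,1,4],[0,2,4,0,4,1,3,1,4,4]], [0,1,0,1,0,1,0,0], 40⟩,
  ⟨4, [[0,4,0,2,0,4,0,3,4,0,4,1,2],[1,5,0,4,4,0,5,1,4,1,5,1,3],[3,0,4,3,0,5,0,4,0,2,5,1,4]], [0,1,2,0,2,0], 24⟩] 7 (by decide +kernel)
def X : List Nat := [8,8]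
def T : List Nat := [13,11,11]
def W : List (List Nat) := [[0,0],[14],[16],[18]]
theorem ha : ∀ α : MulAut Cfsg.Spor.HS, ∃ c : Cfsg.Spor.HS, ∃ S ∈ [[x, y, t], [X, y, T]], ∀ j < 3,
    (MulAut.conj c * α) (wprod g1 (wordAt [x, y, t] j)) = wprod g1 (wordAt S j) :=
  M1.aut3 x y t 11 3 5 1 1 [1,2] hyU [[0,4,0,4,0,4,0,4,0,4,0,4,0,4,0,4,0,4,0,4],[0,2,4,0,2,4,0,2,4,0,2,4,0,2,4,0,2,4,0,2,4,0,2,4],[2,4,1,2,4,1,2,4,1,2,4,1,2,4,1,2,4,1,2,4,1,2,4,1,2,4,1,2,4,1]] _ (by norm_num) (by norm_num) (by norm_num) hx hy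
    (by decide +kernel) (by decide +kernel) (by decide +kernel) (by decide +kernel)
theorem hom : ∃ ψ : Cfsg.Spor.HS →* Cfsg.Spor.HS, ∀ j < 4, ψ (g1 j) = wprod g1 (wordAt W j) :=
  M1.homN s 7 W (by decide +kernel)
theorem out0 : Nat.card (Cfsg.Out Cfsg.Spor.HS) = 2 :=
  M1.out2 hg ha (M1.autS simple _ [[0],[3,1,3,1],[1,4,3,6,0,4,3,6,2,4,0]] _ hom (by decide +kernel)) (q := 5) (by norm_num) hy (by decide +kernel)

end CfsgH7.HS.Ou

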