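import Cfsg.Agent.H7.Mult3
import Cfsg.Agent.H7.OutE
import Cfsg.Agent.H7.Li.G24x

set_option autoImplicit false
set_option maxRecDepth 100000

universe u

open scoped Pointwise

namespace CfsgH7.J2m.Ou

open CfsgH7.J2m

def x : List Nat := [0]
def y : List Nat := [4,0,3,1,2,0,2,2,0,4,1,2]
def t : List Nat := [4,2,1,3,4,0,2,0,2,4]
def cxC : List Lvl := [⟨76, [[4],[0],[2]], [0,1,0,1,2,0,1,2,0,1,2,1,0,1], 100⟩,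
  ⟨99, [[2],[0]], [0,0,1,0,1,0,1,1,0,0,1], 36⟩,
  ⟨39, [[0]], [0,0,0,0,0,0], 7⟩,
  ⟨67, [[2,0,2,2,1,3],[0,2,0,2,0,2,0,2],[0,2,0,2,1,1,2,2]], [0,1,2], 6⟩,
  ⟨74, [[0,2,1,2,2,0,3,1],[0,2,2,1,3,0,2,1,2,2]], [0,1], 4⟩]
def cxM : List (List Nat) := [[0xb26a806489c8527a2d9180005],
  [0x20000040804000080c0000000],
  [],
  [0x2000004000400000040000000],
  []]
def cxZ : List Nat := [0xfffffffffffffffffffffffff]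
theorem cxL : LvOk G0 (finPt 100) 100 [] (mkLV cxC cxM) := M0.lvOk cxC 7 cxM (by decide +kernel) (by decide +kernel)
noncomputable def hxT : Bt := (.br 0 [] [] (Bt.ofL [(76, [], (.br 0 [] [] (Bt.ofL [(99, [], (.br 0 [x] [0,0,0,0,0,0] (Bt.ofL [(39, [], (.step 0 0 [] (.step 0 0 [] (.leaf 0))))])))]))),
 (99, [4,0,2,0,0,4], (.br 0 [] [] (Bt.ofL [(76, [3], (.br 0 [x] [0,0,0,0,0,0] (Bt.ofL [(50, [], (.step 0 0 [0,2,0,2,0,2,0,2] (.dead 0 1 0)))])))])))]))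
theorem hx : Subgroup.centralizer {z | ∃ w ∈ [x], wprod g0 w = z} = genW g0 [x] :=
  M0.cen cxL _ [[0],[0,0],[0,0,0],[0,0,0,0],[0,0,0,0,0],[0,0,0,0,0,0],[1]] _ 1 7 cxZ hxT (by decide +kernel) (by decide +kernel)
def cyC : List Lvl := [⟨30, [[0],[2],[4]], [0,2,0,1,0,1,2,0,0,2,0,2], 100⟩,
  ⟨48, [[1,3,0,3],[0,0,3,0,0],[0,4,0,0,3]], [0,1,2,0,1,2,0], 36⟩,
  ⟨99, [[0,2,1],[4,1,4,0,2,0,4,1,1,4,0]], [0,0,0,1,0], 7⟩,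
  ⟨76, [[2,2,4,0,0,0,2,0,2,4],[2,4,0,0,4,0,0,2,0,0,4]], [0,1,0], 4⟩,
  ⟨32, [[2,0,0,0,2,0,2,2],[0,3,0,2,1,1,3,1,2,2]], [0,1], 3⟩,
  ⟨44, [[2,2,1,1,1,2,1,2]], [0], 2⟩]
def cyM : List (List Nat) := [[],
  [0x80000000000200a2010000200],
  [],
  [0x20000100100000000],
  [],
  []]
def cyZ : List Nat := [0xfffffffffffffffffffffffff]
theorem cyL : LvOk G0 (finPt 100) 100 [] (mkLV cyC cyM) := M0.lvOk cyC 7 cyM (by decide +kernel) (by decide +kernel)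
noncomputable def hyT : Bt := (.br 0 [[0]] [0] (Bt.ofL [(30, [], (.step 0 1 [] (.br 0 [] [] (Bt.ofL [(99, [], (.step 0 1 [] (.br 0 [[0,0]] [0,0] (Bt.ofL [(32, [], (.step 0 0 [] (.leaf 0)))]))))])))),
 (99, [2,2,1,2], (.step 0 1 [0,4,0,0,3,0,4,0,0,3,1,3,0,3] (.br 0 [] [] (Bt.ofL [(30, [0,3,1], (.step 0 1 [2,0,0,0,2,0,2,2,2,2,4,0,0,0,2,0,2,4] (.br 0 [[0,0]] [0,0] (Bt.ofL [(50, [], (.step 0 0 [] (.leaf 1)))]))))]))))]))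
def hyU : List (List Nat) := [[],[4,2,1,3,4,0,2,0,2,4]]
theorem hy : ∀ c : G0, (∀ i, c * wprod g0 (wordAt [powA y 1 []] i) = wprod g0 (wordAt [powA y 1 []] i) * c) →
    ∃ κ ∈ genW g0 [y], ∃ u ∈ hyU, c = κ * wprod g0 u :=
  M0.srch cyL _ _ [[0,0],[0],[0,0,0],[0,0,0,0],[0,0,0,0,0],[1]] _ _ 1 7 cyZ hyT (by decide +kernel) (by decide +kernel)
theorem hg : genW g0 [x, y, t] = ⊤ := M0.top _ [⟨0, [[0],[2],[4]], [0,1,2,0,1,0,2,0,1,0,0], 100⟩,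
  ⟨1, [[1,2,2],[4,1,2,4,1,4]], [0,0,1,0,0,1,0,0,1,0,0,1,0], 63⟩,
  ⟨2, [[0,2,1,5,0,5,1,5,1],[1,2,4,1,5,0,4,0,4],[2,4,1,5,0,5,0,5,1,2]], [0,1,0,2,0,1,0,0], 32⟩,
  ⟨3, [[4,1,2,4,1,4,1,2,4,0,5,0,4,1,4]], [0,0], 3⟩] 7 (by decide +kernel)
def X : List Nat := [0]
def T : List Nat := [4,0,3,1,2,0,2,2,0,4,1,2,4,0,3,1,2,0,2,2,0,4,1,2,4,0,3,1,2,0,2,2,0,4,1,2,4,2,1,3,4,0,2,0,2,4]
def W : List (List Nat) := [[0],[2,1,4,1,1,4,1,2,0,3,0,3,1],[1,4,2,1,1,3,4,1,1,3,4,1]]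
theorem ha : ∀ α : MulAut G0, ∃ c : G0, ∃ S ∈ [[x, y, t], [X, y, T]], ∀ j < 3,
    (MulAut.conj c * α) (wprod g0 (wordAt [x, y, t] j)) = wprod g0 (wordAt S j) :=
  M0.aut3 x y t 7 3 6 1 1 [1] hyU [[2,5,2,2,5,2],[0,4,0,4,0,4,0,4,0,4,0,4,0,4]] _ (by norm_num) (by norm_num) (by norm_num) hx hy
    (by decide +kernel) (by decide +kernel) (by decide +kernel) (by decide +kernel)
theorem hom : ∃ ψ : G0 →* G0, ∀ j < 3, ψ (g0 j) = wprod g0 (wordAt W j) :=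
  M0.homP pr W (by decide +kernel)
theorem out0 : Nat.card (Cfsg.Out G0) = 2 :=
  M0.out2 hg ha (M0.autH [[0],[2,1,4,1,1,4,1,2,0,3,0,3,1],[1,4,2,1,1,3,4,1,1,3,4,1]] _ _ hom (by decide +kernel)) (q := 6) (by norm_num) hy (by decide +kernel)
theorem out {G : Type u} [Group G] (h : Mdl G 3 Rf 604800) : Nat.card (Cfsg.Out G) = 2 :=
  (iso h).elim fun e => out_congr e ▸ out0

end CfsgH7.J2m.Ou

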