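import Cfsg.Agent.H7.Mult3
import Cfsg.Agent.H7.OutE
import Cfsg.Agent.H7.Mu.Math

set_option autoImplicit false
set_option maxRecDepth 100000

universe u

namespace CfsgH7.M11.Ou

open CfsgH7.M11

def x : List Nat := [0]
def y : List Nat := [3,3,0]
def t : List Nat := [3,3,4,3,4,2,2,4]
def cxC : List Lvl := [⟨0, [[0]], [0,0,0,0,0,0,0,0,0,0], 11⟩,
  ⟨9, [[0,0,4],[1,1,2]], [0,1,0,0,1], 10⟩,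
  ⟨3, [[1,4,2,2],[2,4,0,2,4]], [0,0,1,0,0,0], 9⟩,
  ⟨5, [[0,2,4,1,3,4],[0,2,1,3,4,0,0,2]], [0,1,0,0], 8⟩]
def cxM : List (List Nat) := [[],
  [],
  [],
  []]
def cxZ : List Nat := [0x7ff]
theorem cxL : LvOk G0 (finPt 11) 11 [] (mkLV cxC cxM) := M0.lvOk cxC 4 cxM (by decide +kernel) (by decide +kernel)
noncomputable def hxT : Bt := (.br 0 [x] [0,0,0,0,0,0,0,0,0,0] (Bt.ofL [(0, [], (.step 0 0 [] (.step 0 0 [] (.step 0 0 [] (.leaf 0)))))]))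
theorem hx : Subgroup.centralizer {z | ∃ w ∈ [x], wprod g0 w = z} = genW g0 [x] :=
  M0.cen cxL _ [[0],[0,0],[0,0,0],[0,0,0,0],[0,0,0,0,0],[0,0,0,0,0,0],[1]] _ 0 4 cxZ hxT (by decide +kernel) (by decide +kernel)
def cyC : List Lvl := [⟨0, [[0]], [0,0,0,0,0,0,0,0,0,0], 11⟩,
  ⟨1, [[0,0,4],[1,1,2]], [0,1,0,1,0], 10⟩,
  ⟨4, [[0,4,1,3],[3,3,4,2,2]], [0,1,0,0,0,1], 9⟩,
  ⟨9, [[1,4,1,4,2,4,2],[2,1,3,4,0,2,2]], [0,1,0,0], 8⟩]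
def cyM : List (List Nat) := [[0x7fe],
  [],
  [],
  [0x20]]
def cyZ : List Nat := [0x7ff]
theorem cyL : LvOk G0 (finPt 11) 11 [] (mkLV cyC cyM) := M0.lvOk cyC 4 cyM (by decide +kernel) (by decide +kernel)
noncomputable def hyT : Bt := (.br 0 [] [] (Bt.ofL [(0, [], (.br 0 [[0]] [0,0,0,0] (Bt.ofL [(1, [], (.step 0 0 [3,3,1,4,2,0,3,0,4,1,3] (.step 0 0 [2,1,3,4,0,2,2] (.leaf 0)))),
 (2, [4,1,1], (.step 0 0 [1,4,1,4,2,4,2,0,4,1,3] (.step 0 0 [3,4,3,4,0,4,0] (.dead 0 0 0))))])))]))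
def hyU : List (List Nat) := [[3,3,4,3,4,2,2,4]]
theorem hy : ∀ c : G0, (∀ i, c * wprod g0 (wordAt [powA y 1 []] i) = wprod g0 (wordAt [powA y 3 []] i) * c) →
    ∃ κ ∈ genW g0 [y], ∃ u ∈ hyU, c = κ * wprod g0 u :=
  M0.srch cyL _ _ [[0],[0,0],[0,0,0],[0,0,0,0],[1]] _ _ 1 4 cyZ hyT (by decide +kernel) (by decide +kernel)
theorem hg : genW g0 [x, y, t] = ⊤ := M0.top _ [⟨0, [[0]], [0,0,0,0,0,0,0,0,0,0], 11⟩,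
  ⟨1, [[2],[0,0,4,0]], [0,0,0,0,1,0,0], 10⟩,
  ⟨3, [[4],[1,2,5,0]], [0,0,0,1,0,0,1], 9⟩,
  ⟨2, [[0,3,4,1,2],[1,4,2,4,0,4]], [0,1,0,0], 8⟩] 4 (by decide +kernel)
theorem ha : ∀ α : MulAut G0, ∃ c : G0, ∃ S ∈ [[x, y, t]], ∀ j < 3,
    (MulAut.conj c * α) (wprod g0 (wordAt [x, y, t] j)) = wprod g0 (wordAt S j) :=
  M0.aut3 x y t 11 3 5 1 3 [1,2] hyU [[0,0,4,0,0,4,0,0,4]] _ (by norm_num) (by norm_num) (by norm_num) hx hy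
    (by decide +kernel) (by decide +kernel) (by decide +kernel) (by decide +kernel)
theorem out0 : Nat.card (Cfsg.Out G0) = 1 := out_one hg ha
theorem out {G : Type u} [Group G] (h : Mdl G 3 Rf 7920) : Nat.card (Cfsg.Out G) = 1 :=
  (iso h).elim fun e => out_congr e ▸ out0

end CfsgH7.M11.Ou

namespace CfsgH7.M12.Ou

open CfsgH7.M12

def x : List Nat := [0]
def y : List Nat := [3,3,0]
def t : List Nat := [1,1,4,2,6,4,2]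
def cxC : List Lvl := [⟨0, [[6],[0,6]], [0,1,0,1,0,1,0,1,0], 12⟩,
  ⟨1, [[0]], [0,0,0,0,0,0,0,0,0,0], 11⟩,
  ⟨10, [[0,0,4],[1,1,2]], [0,1,0,0,1], 10⟩,
  ⟨4, [[1,4,2,2],[0,6,3,6,0]], [0,1,0,1,0], 9⟩,
  ⟨6, [[0,0,6,2,6,3],[0,2,1,3,4,0,0,2]], [0,1,0,0], 8⟩]
def cxM : List (List Nat) := [[0xffe],
  [],
  [],
  [],
  []]
def cxZ : List Nat := [0xfff]
theorem cxL : LvOk G0 (finPt 12) 12 [] (mkLV cxC cxM) := M0.lvOk cxC 4 cxM (by decide +kernel) (by decide +kernel)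
noncomputable def hxT : Bt := (.br 0 [] [] (Bt.ofL [(0, [], (.br 0 [x] [0,0,0,0,0,0,0,0,0,0] (Bt.ofL [(1, [], (.step 0 0 [] (.step 0 0 [] (.step 0 0 [] (.leaf 0)))))])))]))
theorem hx : Subgroup.centralizer {z | ∃ w ∈ [x], wprod g0 w = z} = genW g0 [x] :=
  M0.cen cxL _ [[0],[0,0],[0,0,0],[0,0,0,0],[0,0,0,0,0],[0,0,0,0,0,0],[1]] _ 1 4 cxZ hxT (by decide +kernel) (by decide +kernel)
def cyC : List Lvl := [⟨0, [[6],[0,6]], [0,1,0,1,0,1,0,1,0], 12⟩,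
  ⟨2, [[0]], [0,0,0,0,0,0,0,0,0,0], 11⟩,
  ⟨5, [[1,4],[0,2,1]], [0,1,0,0,0], 10⟩,
  ⟨10, [[0,0,0,4,2],[0,0,4,0,3]], [0,1,0,0,1], 9⟩,
  ⟨6, [[2,4,3,0,4],[0,3,6,2,6,0,2,4]], [0,1,0,0], 8⟩]
def cyM : List (List Nat) := [[0xffe],
  [],
  [],
  [],
  [0x80]]
def cyZ : List Nat := [0xfff]
theorem cyL : LvOk G0 (finPt 12) 12 [] (mkLV cyC cyM) := M0.lvOk cyC 4 cyM (by decide +kernel) (by decide +kernel)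
noncomputable def hyT : Bt := (.br 0 [] [] (Bt.ofL [(0, [], (.br 0 [[0]] [0,0,0,0] (Bt.ofL [(2, [], (.step 0 0 [] (.step 0 0 [] (.step 0 0 [] (.leaf 0))))),
 (9, [1], (.step 0 0 [1,4] (.step 0 0 [] (.step 0 0 [4,1,2,4,3] (.dead 0 0 0)))))]))),
 (1, [2,1,6], (.br 0 [[0]] [0,0,0,0] (Bt.ofL [(2, [], (.step 0 0 [] (.step 0 0 [4,3,1,6,3,6,2,0,0,4,2] (.step 0 0 [] (.dead 0 0 0))))),
 (3, [0,2], (.step 0 0 [0,3,1] (.step 0 0 [2,1,4,1,1] (.step 0 0 [2,4,3,0,4] (.leaf 1)))))])))]))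
def hyU : List (List Nat) := [[],[1,1,4,2,6,4,2]]
theorem hy : ∀ c : G0, (∀ i, c * wprod g0 (wordAt [powA y 1 []] i) = wprod g0 (wordAt [powA y 1 []] i) * c) →
    ∃ κ ∈ genW g0 [y], ∃ u ∈ hyU, c = κ * wprod g0 u :=
  M0.srch cyL _ _ [[0],[0,0],[0,0,0],[0,0,0,0],[1]] _ _ 1 4 cyZ hyT (by decide +kernel) (by decide +kernel)
theorem hg : genW g0 [x, y, t] = ⊤ := M0.top _ [⟨1, [[0],[4]], [0,1,0,0,1,0], 12⟩,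
  ⟨2, [[2],[4,0,4]], [0,0,0,0,1,0,0,0], 11⟩,
  ⟨0, [[3,4,0,4],[0,3,4,0,3]], [0,1,0,1,0,0], 10⟩,
  ⟨3, [[0,4,1,4,1,3,1,4,0],[0,0,4,0,3,4,0,4,1,2]], [0,1,0,1,0], 9⟩,
  ⟨4, [[0,2,0,3,4,0,3,4,0,2,4,0],[1,4,0,0,4,1,4,0,4,0,4,0]], [0,1,0,0], 8⟩] 4 (by decide +kernel)
def X : List Nat := [0,0]
def T : List Nat := [1,1,4,2,6,4,2]
def W : List (List Nat) := [[0,0],[0,0,2],[0,0,0,4,2,0,6,1],[1,4,1,4,2,2,0,6]]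
theorem ha : ∀ α : MulAut G0, ∃ c : G0, ∃ S ∈ [[x, y, t], [X, y, T]], ∀ j < 3,
    (MulAut.conj c * α) (wprod g0 (wordAt [x, y, t] j)) = wprod g0 (wordAt S j) :=
  M0.aut3 x y t 11 3 5 1 1 [1,2] hyU [[4,4],[0,2,4,0,2,4,0,2,4,0,2,4,0,2,4,0,2,4]] _ (by norm_num) (by norm_num) (by norm_num) hx hy
    (by decide +kernel) (by decide +kernel) (by decide +kernel) (by decide +kernel)
theorem hom : ∃ ψ : G0 →* G0, ∀ j < 4, ψ (g0 j) = wprod g0 (wordAt W j) :=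
  M0.homP pr W (by decide +kernel)
theorem out0 : Nat.card (Cfsg.Out G0) = 2 :=
  M0.out2 hg ha (M0.autH [[1,2,2,0,0,3,3,0],[1,2,2,0,0,3,0],[1,2,2,0,0,0,4,2,0,6,1,3,3,0],[1,2,2,1,4,1,4,2,2,0,6,3,3,0]] _ _ hom (by decide +kernel)) (q := 5) (by norm_num) hy (by decide +kernel)
theorem out {G : Type u} [Group G] (h : Mdl G 4 Rf 95040) : Nat.card (Cfsg.Out G) = 2 :=
  (iso h).elim fun e => out_congr e ▸ out0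

end CfsgH7.M12.Ou

namespace CfsgH7.M22.Ou

open CfsgH7.M22

def x : List Nat := [1]
def y : List Nat := [1,3,3,1]
def t : List Nat := [2,4,1,4,1,1,4,0,3,1]
def cxC : List Lvl := [⟨0, [[0],[4]], [0,0,1,0,0,1,0,0,1,0], 22⟩,
  ⟨10, [[4],[0,0,2,1],[0,4,0,3]], [0,2,0,1,0,2,1,1], 21⟩,
  ⟨16, [[0,3,1,1,4],[0,4,2,2,4]], [0,1,0,1,0,0,1,0], 20⟩,
  ⟨20, [[1,3,4,1,1,1,4],[3,4,0,4,0,3,1,4],[0,0,4,0,0,4,1,4,0],[0,0,4,1,4,0,0,0,4]], [0,1,2,3], 16⟩,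
  ⟨9, [[2,0,4,0,2,2,4,2,0,2]], [0,0], 3⟩]
def cxM : List (List Nat) := [[],
  [],
  [0x200240],
  [],
  []]
def cxZ : List Nat := [0x3fffff]
theorem cxL : LvOk G0 (finPt 22) 22 [] (mkLV cxC cxM) := M0.lvOk cxC 5 cxM (by decide +kernel) (by decide +kernel)
noncomputable def hxT : Bt := (.br 0 [[0]] [0,0,0,0,0,0,0,0,0,0] (Bt.ofL [(0, [], (.step 0 0 [] (.step 0 0 [] (.step 0 0 [] (.step 0 0 [] (.leaf 0)))))),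
 (17, [4,2], (.step 0 0 [4,3,3,4,3,1,1] (.step 0 0 [0,3,1,1,4,0,4,2,2,4] (.dead 0 1 0))))]))
theorem hx : Subgroup.centralizer {z | ∃ w ∈ [x], wprod g0 w = z} = genW g0 [x] :=
  M0.cen cxL _ [[0],[0,0],[0,0,0],[0,0,0,0],[0,0,0,0,0],[0,0,0,0,0,0],[1]] _ 0 5 cxZ hxT (by decide +kernel) (by decide +kernel)
def cyC : List Lvl := [⟨0, [[0],[4]], [0,0,1,0,0,1,0,0,1,0], 22⟩,
  ⟨1, [[4],[0,0,2,1],[0,4,0,3]], [0,1,0,2,0,2,0,1], 21⟩,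
  ⟨2, [[0,4,1,2,0],[0,3,1,4,0,3]], [0,1,0,1,0,1,0,0,0], 20⟩,
  ⟨9, [[0,0,0,4,2,0,4],[0,2,1,4,1,3,4,3],[1,1,1,4,0,4,1,1,4],[1,1,4,1,1,1,4,0,4]], [0,1,2,3], 16⟩,
  ⟨10, [[0,3,4,3,1,1,4,1,1,4,0,2]], [0,0], 3⟩]
def cyM : List (List Nat) := [[0x3ffffe],
  [],
  [0x3edfe8],
  [0x108400],
  [0x100000]]
def cyZ : List Nat := [0x3fffff]
theorem cyL : LvOk G0 (finPt 22) 22 [] (mkLV cyC cyM) := M0.lvOk cyC 5 cyM (by decide +kernel) (by decide +kernel)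
noncomputable def hyT : Bt := (.br 0 [] [] (Bt.ofL [(0, [], (.br 0 [[0]] [0,0,0,0] (Bt.ofL [(1, [], (.step 0 0 [1,1,4,1,1,1,4,0,4,0,2,1,4,1,3,4,3,0,4,1,2,0] (.step 0 0 [1,1,4,1,1,1,4,0,4,1,1,1,4,0,4,1,1,4] (.step 0 0 [0,3,4,3,1,1,4,1,1,4,0,2] (.dead 0 0 0))))),
 (3, [0,4,0,3,4], (.step 0 0 [3,1,4,0,0,4,0,0,2,4,2,1,1,3,0,4,1] (.step 0 0 [] (.dead 0 0 0)))),
 (5, [1,1,1,4,0,4,1,1], (.step 0 0 [1,3,0,4,3,1,4,0,3] (.step 0 0 [1,1,1,4,0,4,1,1,4] (.dead 0 0 0)))),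
 (21, [4], (.step 0 0 [0,3,1,4,0,3] (.dead 0 0 0)))]))),
 (15, [4,3], (.br 0 [[0]] [0,0,0,0] (Bt.ofL [(6, [], (.step 0 0 [2,1,4,0,2,1,1,3,0,4,1] (.dead 0 0 0))),
 (3, [0,4,0,3,4], (.step 0 0 [2,1,4,0,2,2,1,4,1,3,4,3,0,4,1,2,0] (.step 0 0 [0,2,1,4,1,3,4,3] (.dead 0 0 0)))),
 (1, [1,3,0,4,1,4], (.step 0 0 [3,1,4,0,0,4,0,0,2,4,2,1,1,3,0,4,1] (.step 0 0 [1,1,4,1,1,1,4,0,4] (.step 0 0 [] (.leaf 0))))),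
 (21, [0,3,1,1], (.step 0 0 [] (.step 0 0 [3,1,4,0,0,4,0,0,2,4,2,1,1,1,4,1,1,1,4,0,4] (.dead 0 0 0))))])))]))
def hyU : List (List Nat) := [[2,4,1,4,1,1,4,0,3,1,1,3,3,1,1,3,3,1]]
theorem hy : ∀ c : G0, (∀ i, c * wprod g0 (wordAt [powA y 1 []] i) = wprod g0 (wordAt [powA y 3 []] i) * c) →
    ∃ κ ∈ genW g0 [y], ∃ u ∈ hyU, c = κ * wprod g0 u :=
  M0.srch cyL _ _ [[0],[0,0],[0,0,0],[0,0,0,0],[1]] _ _ 1 5 cyZ hyT (by decide +kernel) (by decide +kernel)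
theorem hg : genW g0 [x, y, t] = ⊤ := M0.top _ [⟨0, [[0],[4]], [0,1,0,1,0,1,0,1,0], 22⟩,
  ⟨1, [[2],[0,2,5,1]], [0,0,0,0,1,0,0,0,0,1], 21⟩,
  ⟨2, [[3,4,4],[0,2,4,4,0,0],[2,1,4,1,3,5]], [0,1,0,2,2,0,2], 20⟩,
  ⟨3, [[2,1,4,1,4,3],[4,1,4,2,4,0,5],[4,3,0,5,0,4,3,4]], [0,1,0,2,0,0], 16⟩,
  ⟨4, [[0,0,4,0,4,4,1,5,0,5]], [0,0], 3⟩] 5 (by decide +kernel)
def X : List Nat := [1,1]
def T : List Nat := [1,3,3,1,1,3,3,1,1,3,3,1,2,4,1,4,1,1,4,0,3,1,1,3,3,1,1,3,3,1]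
def W : List (List Nat) := [[0,0],[0,0,0,2],[2,1,4,0,4,1,1,1,4]]
theorem ha : ∀ α : MulAut G0, ∃ c : G0, ∃ S ∈ [[x, y, t], [X, y, T]], ∀ j < 3,
    (MulAut.conj c * α) (wprod g0 (wordAt [x, y, t] j)) = wprod g0 (wordAt S j) :=
  M0.aut3 x y t 11 3 5 1 3 [1,2] hyU [[0,4,0,4,0,4,0,4,0,4,0,4]] _ (by norm_num) (by norm_num) (by norm_num) hx hy
    (by decide +kernel) (by decide +kernel) (by decide +kernel) (by decide +kernel)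
theorem hom : ∃ ψ : G0 →* G0, ∀ j < 3, ψ (g0 j) = wprod g0 (wordAt W j) :=
  M0.homP pr W (by decide +kernel)
theorem out0 : Nat.card (Cfsg.Out G0) = 2 :=
  M0.out2 hg ha (M0.autH [[0,2,2,0,0,3,3,1],[0,2,2,0,0,0,0,2,1,3,3,1],[0,2,2,0,2,1,4,0,4,1,1,1,4,1,3,3,1]] _ _ hom (by decide +kernel)) (q := 5) (by norm_num) hy (by decide +kernel)
theorem out {G : Type u} [Group G] (h : Mdl G 3 Rf 443520) : Nat.card (Cfsg.Out G) = 2 :=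
  (iso h).elim fun e => out_congr e ▸ out0

end CfsgH7.M22.Ou

namespace CfsgH7.M23.Ou

open CfsgH7.M23

def x : List Nat := [6,4,0]
def y : List Nat := [3,3,6,3,1,4,6,0,4,6,2,0]
def t : List Nat := [6,0,3,3,6,2,2,4,6,0,3]
def cxC : List Lvl := [⟨0, [[0],[4],[6]], [0,2,0,1,2,0,1,0,0,1], 23⟩,
  ⟨14, [[0,4,1],[1,1,2],[1,6,3]], [0,1,2,1,0,1,2,0], 22⟩,
  ⟨10, [[4],[0,0,6,0,6],[1,1,6,0,0]], [0,1,0,2,0,1,0,2,0], 21⟩,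
  ⟨5, [[3,3,4,3,1,4],[0,3,4,3,3,4,0],[1,3,6,4,3,3,4],[3,0,3,6,2,1,2]], [0,1,3,2,0,1], 20⟩,
  ⟨19, [[1,2,6,4,6,3,0],[0,0,0,4,2,6,2,0,4,2],[0,4,1,6,1,3,6,2,0,6]], [0,1,2,0,1], 16⟩,
  ⟨13, [[1,1,6,0,2,2,4,3,3,0]], [0,0], 3⟩]
def cxM : List (List Nat) := [[],
  [],
  [],
  [],
  [],
  []]
def cxZ : List Nat := [0x7fffff]
theorem cxL : LvOk G0 (finPt 23) 23 [] (mkLV cxC cxM) := M0.lvOk cxC 5 cxM (by decide +kernel) (by decide +kernel)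
noncomputable def hxT : Bt := (.br 0 [[0]] [0,0,0,0,0,0,0,0,0,0,0,0,0,0,0,0,0,0,0,0,0,0] (Bt.ofL [(0, [], (.step 0 0 [] (.step 0 0 [] (.step 0 0 [] (.step 0 0 [] (.step 0 0 [] (.leaf 0)))))))]))
theorem hx : Subgroup.centralizer {z | ∃ w ∈ [x], wprod g0 w = z} = genW g0 [x] :=
  M0.cen cxL _ [[0],[0,0],[0,0,0],[0,0,0,0],[0,0,0,0,0],[0,0,0,0,0,0],[1]] _ 0 5 cxZ hxT (by decide +kernel) (by decide +kernel)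
def cyC : List Lvl := [⟨0, [[0],[4],[6]], [0,2,0,1,2,0,1,0,0,1], 23⟩,
  ⟨1, [[4],[0,4,1],[1,6,3]], [0,1,0,2,0,2,0,1,0,1], 22⟩,
  ⟨2, [[3,4,2],[1,2,2,4],[0,0,6,0,6]], [0,1,0,2,1,2,0,1,0], 21⟩,
  ⟨20, [[2,6,4,3,1,4],[1,6,2,4,3,6,0],[2,0,6,1,4,0,3]], [0,1,0,0,0,2,0], 20⟩,
  ⟨5, [[3,3,1,6,0,2,2],[3,3,4,6,4,6,0,6],[3,3,1,4,6,4,0,2,2],[3,3,4,3,3,6,3,1,4]], [0,1,2,3,0], 16⟩,
  ⟨9, [[0,6,3,6,3,4,2,1,6,3,6,2]], [0,0], 3⟩]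
def cyM : List (List Nat) := [[0x7ffffe],
  [],
  [],
  [0x8600],
  [],
  []]
def cyZ : List Nat := [0x7fffff]
theorem cyL : LvOk G0 (finPt 23) 23 [] (mkLV cyC cyM) := M0.lvOk cyC 5 cyM (by decide +kernel) (by decide +kernel)
noncomputable def hyT : Bt := (.br 0 [] [] (Bt.ofL [(0, [], (.br 0 [[0]] [0,0,0,0,0,0,0,0,0,0] (Bt.ofL [(1, [], (.step 0 0 [2,1,4,0,6,1,3,3,4,2] (.step 0 0 [0,6,3,6,3,4,2,1,6,3,6,2,2,6,4,3,1,4] (.step 0 0 [3,3,4,6,4,6,0,6] (.step 0 0 [3,6,2,6,0,3,4,2,6,2,6,1] (.leaf 0)))))),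
 (4, [4], (.step 0 0 [3,3,4,3,3,6,3,1,4,3,4,2] (.step 0 0 [] (.dead 0 1 0))))])))]))
def hyU : List (List Nat) := [[6,0,3,3,6,2,2,4,6,0,3]]
theorem hy : ∀ c : G0, (∀ i, c * wprod g0 (wordAt [powA y 1 []] i) = wprod g0 (wordAt [powA y 9 []] i) * c) →
    ∃ κ ∈ genW g0 [y], ∃ u ∈ hyU, c = κ * wprod g0 u :=
  M0.srch cyL _ _ [[0],[0,0],[0,0,0],[0,0,0,0],[0,0,0,0,0],[0,0,0,0,0,0],[1]] _ _ 1 5 cyZ hyT (by decide +kernel) (by decide +kernel)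
theorem hg : genW g0 [x, y, t] = ⊤ := M0.top _ [⟨0, [[0]], [0,0,0,0,0,0,0,0,0,0,0,0,0,0,0,0,0,0,0,0,0,0], 23⟩,
  ⟨1, [[2],[1,4,0]], [0,0,0,1,0,0,0,0,0], 22⟩,
  ⟨2, [[4],[0,0,5,5,1]], [0,0,0,0,1,0,1,0,0,1], 21⟩,
  ⟨3, [[2,1,5,5,0,2],[0,4,4,1,1,5,5],[2,4,1,4,0,2,5,3]], [0,1,0,2,1,0], 20⟩,
  ⟨4, [[1,2,1,5,1,5,1,5,2],[3,1,4,2,0,4,0,2,2],[5,1,4,2,0,4,0,2,4]], [0,1,2,0,2], 16⟩,
  ⟨5, [[0,3,4,1,5,5,1,2,4,1,4,0]], [0,0], 3⟩] 5 (by decide +kernel)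
theorem ha : ∀ α : MulAut G0, ∃ c : G0, ∃ S ∈ [[x, y, t]], ∀ j < 3,
    (MulAut.conj c * α) (wprod g0 (wordAt [x, y, t] j)) = wprod g0 (wordAt S j) :=
  M0.aut3 x y t 23 2 11 1 9 [1,5] hyU [[0,2,5,0,2,5,0,2,5,0,2,5,0,2,5]] _ (by norm_num) (by norm_num) (by norm_num) hx hy
    (by decide +kernel) (by decide +kernel) (by decide +kernel) (by decide +kernel)
theorem out0 : Nat.card (Cfsg.Out G0) = 1 := out_one hg ha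
theorem out {G : Type u} [Group G] (h : Mdl G 4 Rf 10200960) : Nat.card (Cfsg.Out G) = 1 :=
  (iso h).elim fun e => out_congr e ▸ out0

end CfsgH7.M23.Ou

namespace CfsgH7.M24.Ou

open CfsgH7.M24

def x : List Nat := [4,6,8]
def y : List Nat := [8,1,1,6,2,8,4,6,8,4,8]
def t : List Nat := [8,2,4,6,1,1,2,8,0,6,4,1,4]
def cxC : List Lvl := [⟨3, [[0],[4],[6],[8]], [0,0,2,0,1,2,0,3], 24⟩,
  ⟨0, [[6],[8],[0,2],[4,6]], [0,1,2,1,3,0,1], 23⟩,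
  ⟨13, [[4],[3,8,2],[0,8,1,4],[1,1,6,2]], [0,1,3,0,2,0,3,0,1], 22⟩,
  ⟨23, [[0,8,1],[0,0,8,1,4,1],[2,0,2,0,8,3]], [0,1,0,2,0,1,2,0,1], 21⟩,
  ⟨9, [[4,1,1,6,2,4],[6,4,0,2,4,6]], [0,1,0,1,0,0,1], 20⟩,
  ⟨7, [[3,1,6,0,2],[1,2,8,6,0,8,0],[3,1,4,6,4,0,2]], [0,2,1,0,2], 16⟩,
  ⟨20, [[0,2,6,0,3,6,2,2]], [0,0], 3⟩]
def cxM : List (List Nat) := [[0xfffff7],
  [],
  [],
  [],
  [],
  [],
  []]
def cxZ : List Nat := [0xffffff]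
theorem cxL : LvOk G0 (finPt 24) 24 [] (mkLV cxC cxM) := M0.lvOk cxC 5 cxM (by decide +kernel) (by decide +kernel)
noncomputable def hxT : Bt := (.br 0 [] [] (Bt.ofL [(3, [], (.br 0 [[0]] [0,0,0,0,0,0,0,0,0,0,0,0,0,0,0,0,0,0,0,0,0,0] (Bt.ofL [(0, [], (.step 0 0 [] (.step 0 0 [] (.step 0 0 [] (.step 0 0 [] (.step 0 0 [] (.leaf 0)))))))])))]))
theorem hx : Subgroup.centralizer {z | ∃ w ∈ [x], wprod g0 w = z} = genW g0 [x] :=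
  M0.cen cxL _ [[0],[0,0],[0,0,0],[0,0,0,0],[0,0,0,0,0],[0,0,0,0,0,0],[1]] _ 1 5 cxZ hxT (by decide +kernel) (by decide +kernel)
def cyC : List Lvl := [⟨0, [[0],[4],[6],[8]], [0,2,0,1,3,0,1,3], 24⟩,
  ⟨1, [[4],[0,4,1],[0,8,1]], [0,1,0,2,0,1,0,2,0,1,2,0], 23⟩,
  ⟨14, [[2,1,8],[1,2,2,4],[1,2,8,2]], [0,2,0,1,0,0,1,1,0], 22⟩,
  ⟨2, [[0,0,6,0,6],[6,0,4,1,6],[8,2,0,4,8]], [0,1,2,0,1,2,0], 21⟩,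
  ⟨9, [[2,0,6,1,4,0,3],[2,8,4,0,8,1,8]], [0,1,0,1,0,0,1,1], 20⟩,
  ⟨5, [[0,8,2,2,8,6,3,0,0],[1,2,8,4,2,1,2,8,2],[1,8,0,2,6,4,6,8,3]], [0,1,2,0,0,1], 16⟩,
  ⟨19, [[2,8,4,0,4,8,2,8,1,8]], [0,0], 3⟩]
def cyM : List (List Nat) := [[0xfffffe],
  [],
  [],
  [],
  [0xdeadf8, 0x211000],
  [],
  []]
def cyZ : List Nat := [0xffffff]
theorem cyL : LvOk G0 (finPt 24) 24 [] (mkLV cyC cyM) := M0.lvOk cyC 5 cyM (by decide +kernel) (by decide +kernel)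
noncomputable def hyT : Bt := (.br 0 [] [] (Bt.ofL [(0, [], (.br 0 [[0]] [0,0,0,0,0,0,0,0,0,0] (Bt.ofL [(1, [], (.step 0 0 [1,2,8,4,2,1,2,8,2,2,1,8] (.step 0 0 [6,0,4,1,6,8,4,1,3,8] (.step 0 0 [8,0,8,1,4,8,0,6,1,4,0,3] (.dead 0 1 0))))),
 (4, [4], (.step 0 0 [8,0,8,3,8,4,1,4,8,3,1,2,8,2] (.step 0 0 [8,0,8,1,4,8,3,8,2,0,4,8] (.step 0 0 [0,8,2,2,8,6,3,0,0,2,0,6,1,4,0,3] (.dead 0 5 1)))))]))),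
 (3, [2], (.br 0 [[0]] [0,0,0,0,0,0,0,0,0,0] (Bt.ofL [(13, [0,8,1,4], (.step 0 0 [3,8,3,0,3,4,8,3,0,4,3,3,0] (.step 0 0 [8,4,1,3,8,0,0,6,0,6] (.step 0 0 [1,1,2,6,8,3,3,8,1,2,8,4,0,8,1,8] (.dead 0 5 1))))),
 (4, [4], (.step 0 0 [2,8,4,0,8,1,8,2,1,8] (.step 0 0 [2,8,4,0,4,8,2,8,1,8,0,0,6,0,6] (.step 0 0 [8,0,8,1,4,8,0,6,1,4,0,3] (.step 0 0 [8,0,8,3,8,4,1,4,8,3,0,8,2,2,8,6,3,0,0] (.step 0 0 [] (.leaf 0)))))))])))]))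
def hyU : List (List Nat) := [[8,2,4,6,1,1,2,8,0,6,4,1,4]]
theorem hy : ∀ c : G0, (∀ i, c * wprod g0 (wordAt [powA y 1 []] i) = wprod g0 (wordAt [powA y 8 []] i) * c) →
    ∃ κ ∈ genW g0 [y], ∃ u ∈ hyU, c = κ * wprod g0 u :=
  M0.srch cyL _ _ [[0],[0,0],[0,0,0],[0,0,0,0],[0,0,0,0,0],[0,0,0,0,0,0],[1]] _ _ 1 5 cyZ hyT (by decide +kernel) (by decide +kernel)
theorem hg : genW g0 [x, y, t] = ⊤ := M0.top _ [⟨0, [[0],[4]], [0,1,0,1,0,1,0,0], 24⟩,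
  ⟨1, [[2],[4,0,4]], [0,0,0,0,0,0,1,0,0,0,0,0,0], 23⟩,
  ⟨2, [[4,3,4],[4,0,2,4]], [0,1,0,1,0,0,1,0,1], 22⟩,
  ⟨3, [[4,1,4,2,4,0,5],[5,0,3,0,4,4,4]], [0,1,0,1,0,1,0,1], 21⟩,
  ⟨4, [[0,3,0,5,5,0,2,2,0],[3,5,1,4,3,4,0,3,3,5]], [0,1,0,1,0,1], 20⟩,
  ⟨5, [[4,1,1,4,4,4,4,0,0,2,4],[0,2,0,2,2,5,0,3,5,0,5,3],[0,4,1,1,5,2,5,1,1,5,1,4]], [0,1,0,2,2], 16⟩,
  ⟨6, [[1,4,0,5,1,1,5,1,5,1,2,1,5]], [0,0], 3⟩] 5 (by decide +kernel)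
theorem ha : ∀ α : MulAut G0, ∃ c : G0, ∃ S ∈ [[x, y, t]], ∀ j < 3,
    (MulAut.conj c * α) (wprod g0 (wordAt [x, y, t] j)) = wprod g0 (wordAt S j) :=
  M0.aut3 x y t 23 2 11 1 8 [1,5] hyU [[0,2,4,4,0,2,4,4,0,2,4,4,0,2,4,4]] _ (by norm_num) (by norm_num) (by norm_num) hx hy
    (by decide +kernel) (by decide +kernel) (by decide +kernel) (by decide +kernel)
theorem out0 : Nat.card (Cfsg.Out G0) = 1 := out_one hg ha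
theorem out {G : Type u} [Group G] (h : Mdl G 5 Rf 244823040) : Nat.card (Cfsg.Out G) = 1 :=
  (iso h).elim fun e => out_congr e ▸ out0

end CfsgH7.M24.Ou

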