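import Cfsg.Agent.H7.Ou.ONB
import Cfsg.Agent.H7.Ou.ONC

set_option autoImplicit false
set_option maxRecDepth 100000
set_option Elab.async false

universe u

namespace CfsgH7.ON.Ou

open CfsgH7.ON

theorem hg : genW g1 [x, y, t] = ⊤ := M1.top _ [⟨1, [[0],[2],[4]], [0,1,2,0,1,2,0,2,1,0,2,1,0,2,1,0,2,1,0,2,1,0,2,1,0,2], 122760⟩,
  ⟨0, [[3,1,5,1,3,4,0,4,4],[0,0,4,1,1,3,4,0,3,4]], [0,1,0,1,0,1,0,1,0,1,0,1,0,1,0,1,0,1,0,1,0,1,0,1,0,1,0], 58653⟩,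
  ⟨2, [[1,2,1,2,2],[3,1,5,1,3,4,0,4,4,0,0,4,1,1,3,4,0,3,4,3,1,5,1,3,4,0,4,2,1,5,2,0,0,5,1,1,3,1,5,1,3,4,0,4,2,1,5,2,0,0,5,1,1,3,1,5,1,3,4,0,4,4,3,1,5,1,3,4,0,4,4,3,1,5,1,3,4,0,4,4,0,0,4,1,1,3,4,0,3,5,1,5,2,0,4,0,2,0,0,4,1,1,3,4,0,3,4,3,1,5,1,3,4,0,4,4]], [0,1,0,1,1,1,1,1,1,1], 32⟩,
  ⟨5, [[5,2,1,5,2,0,0,5,1,1,5,5,1,5,2,0,4,0,2,5,2,1,5,2,0,0,5,1,1,3,1,5,1,3,4,0,4,2,1,5,2,0,0,5,1,1,5,2,1,5,2,0,0,5,1,1,5,2,1,5,2,0,0,5,1,1,5,2,1,5,2,0,0,5,1,1,5,2,1,5,2,0,0,5,1,1,5,5,1,5,2,0,4,0,2,0,0,4,1,1,3,4,0,3,4,0,0,4,1,1,3,4,0,3,5,1,5,2,0,4,0,2]], [0], 2⟩] 17 (by decide +kernel)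
def X : List Nat := [14]
def T : List Nat := [18,18,20,20,6,17,15,8,12,15,18,18,12,1,1,15,2,17,19,15]
def W : List (List Nat) := [[22],[24],[26],[28],[30],[32],[34]]
def RR : List (List Nat) := [[4,4,4,4,4,4],[0,4,1,4,0,4,1,4,0,4,1,4,0,4,1,4,0,4,1,4,0,4,1,4,0,4,1,4,0,4,1,4,0,4,1,4,0,4,1,4,0,4,1,4],[0,4,1,3,4,0,4,1,3,4,0,4,1,3,4,0,4,1,3,4,0,4,1,3,4,0,4,1,3,4,0,4,1,3,4,0,4,1,3,4,0,4,1,3,4,0,4,1,3,4]]
theorem h4_1_0 : lall (fun u => candOk l1 bs RR [[x, y, t], [X, y, T]] (powA x 1 []) y (powA y 0 u)) hyU = true := by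
  decide +kernel
theorem h4_1_1 : lall (fun u => candOk l1 bs RR [[x, y, t], [X, y, T]] (powA x 1 []) y (powA y 1 u)) hyU = true := by
  decide +kernel
theorem h4_1_2 : lall (fun u => candOk l1 bs RR [[x, y, t], [X, y, T]] (powA x 1 []) y (powA y 2 u)) hyU = true := by
  decide +kernel
theorem h4_1_3 : lall (fun u => candOk l1 bs RR [[x, y, t], [X, y, T]] (powA x 1 []) y (powA y 3 u)) hyU = true := by
  decide +kernel
theorem h4_1_4 : lall (fun u => candOk l1 bs RR [[x, y, t], [X, y, T]] (powA x 1 []) y (powA y 4 u)) hyU = true := by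
  decide +kernel
theorem h4_1_5 : lall (fun u => candOk l1 bs RR [[x, y, t], [X, y, T]] (powA x 1 []) y (powA y 5 u)) hyU = true := by
  decide +kernel
theorem h4_2_0 : lall (fun u => candOk l1 bs RR [[x, y, t], [X, y, T]] (powA x 2 []) y (powA y 0 u)) hyU = true := by
  decide +kernel
theorem h4_2_1 : lall (fun u => candOk l1 bs RR [[x, y, t], [X, y, T]] (powA x 2 []) y (powA y 1 u)) hyU = true := by
  decide +kernel
theorem h4_2_2 : lall (fun u => candOk l1 bs RR [[x, y, t], [X, y, T]] (powA x 2 []) y (powA y 2 u)) hyU = true := by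
  decide +kernel
theorem h4_2_3 : lall (fun u => candOk l1 bs RR [[x, y, t], [X, y, T]] (powA x 2 []) y (powA y 3 u)) hyU = true := by
  decide +kernel
theorem h4_2_4 : lall (fun u => candOk l1 bs RR [[x, y, t], [X, y, T]] (powA x 2 []) y (powA y 4 u)) hyU = true := by
  decide +kernel
theorem h4_2_5 : lall (fun u => candOk l1 bs RR [[x, y, t], [X, y, T]] (powA x 2 []) y (powA y 5 u)) hyU = true := by
  decide +kernel
theorem h4_4_0 : lall (fun u => candOk l1 bs RR [[x, y, t], [X, y, T]] (powA x 4 []) y (powA y 0 u)) hyU = true := by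
  decide +kernel
theorem h4_4_1 : lall (fun u => candOk l1 bs RR [[x, y, t], [X, y, T]] (powA x 4 []) y (powA y 1 u)) hyU = true := by
  decide +kernel
theorem h4_4_2 : lall (fun u => candOk l1 bs RR [[x, y, t], [X, y, T]] (powA x 4 []) y (powA y 2 u)) hyU = true := by
  decide +kernel
theorem h4_4_3 : lall (fun u => candOk l1 bs RR [[x, y, t], [X, y, T]] (powA x 4 []) y (powA y 3 u)) hyU = true := by
  decide +kernel
theorem h4_4_4 : lall (fun u => candOk l1 bs RR [[x, y, t], [X, y, T]] (powA x 4 []) y (powA y 4 u)) hyU = true := by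
  decide +kernel
theorem h4_4_5 : lall (fun u => candOk l1 bs RR [[x, y, t], [X, y, T]] (powA x 4 []) y (powA y 5 u)) hyU = true := by
  decide +kernel
theorem h4 : lall (fun i => nall (fun m => lall (fun u => candOk l1 bs RR [[x, y, t], [X, y, T]] (powA x i []) y (powA y m u)) hyU) 6)
    [1,2,4] = true := by
  refine lall_cons' ?_ (lall_cons' ?_ (lall_cons' ?_ lall_nil')) <;> refine nall_iff.2 fun m hm => ?_ <;> interval_cases m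
  exacts [h4_1_0, h4_1_1, h4_1_2, h4_1_3, h4_1_4, h4_1_5, h4_2_0, h4_2_1, h4_2_2, h4_2_3, h4_2_4, h4_2_5, h4_4_0, h4_4_1, h4_4_2, h4_4_3, h4_4_4, h4_4_5]
theorem ha : ∀ α : MulAut Cfsg.Spor.ON, ∃ c : Cfsg.Spor.ON, ∃ S ∈ [[x, y, t], [X, y, T]], ∀ j < 3,
    (MulAut.conj c * α) (wprod g1 (wordAt [x, y, t] j)) = wprod g1 (wordAt S j) :=
  M1.aut3 x y t 19 8 6 1 1 [1,2,4] hyU RR _ (by norm_num) (by norm_num) (by norm_num) hx hy
    (by decide +kernel) (by decide +kernel) (by decide +kernel) h4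
theorem hom : ∃ ψ : Cfsg.Spor.ON →* Cfsg.Spor.ON, ∀ j < 7, ψ (g1 j) = wprod g1 (wordAt W j) :=
  M1.homP pr W (by decide +kernel)
theorem out0 : Nat.card (Cfsg.Out Cfsg.Spor.ON) = 2 :=
  M1.out2 hg ha (M1.autS simple _ [[8,12,10,2,4,6],[4,6,8,6,10,8,4,6,12,10,8,6,10,8,4,6,8,10,8,6,8,4,6,4,2],[10,1,8,6,8,10,0,8,2,4,6,10,8,4,6,10,8,12,10,8,4,6,2]] _ hom (by decide +kernel)) (q := 6) (by norm_num) hy (by decide +kernel)


end CfsgH7.ON.Ou
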