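import Cfsg.Agent.H7.Mult3
import Cfsg.Agent.H7.OutF
import Cfsg.Agent.H7.ON.Main
import Cfsg.Agent.H7.Ou.ONN0
import Cfsg.Agent.H7.Ou.ONN1

set_option autoImplicit false
set_option maxRecDepth 100000
set_option Elab.async false

universe u

namespace CfsgH7.ON.Ou

open CfsgH7.ON

theorem M0 : Md (finPt 122760) 122760 g l 7 460815505920 bs := ⟨R, finPt_inj _, fin, card, gen, base, hbs⟩
theorem pr : Pr.{u} 7 RS 460815505920 := fun _ _ g h => card0 g h
noncomputable def l2 : List Net := [e0, e1, e2, e3, e4, e5, e6, e7, e8, e9, e10]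
def U1 : List (List Nat) := [[2,12,8,4,6,10],[2,4,2,10,8,6,8,6,8,10,8,4,6,8,2,4,6,10,8,4,2,10],[15,15,8,15,8,14,14,12,0,0,6,8,6,2,14,4,12,14,4,17,0,0,6,8,6,16],[8,17,0,16,4,0,2,8,19,12,16,6,10,17,6,2,8,19,12,16,6,12,19,19,14,12,1,1,15,2,17,19,15],[10,1,15,17,15,0,10,19,19,12,10,2,8,19,12,16,6,12,15,18,18,12,14,18,16,2,14,0,0,18,18],[2,18,0,10,2,4,1,15,2,17,19,15,15,10,4,2,12,19,19,14,12,19,19],[18,1,10,16,8,6,0,12,15,18,18,12,10,14,10,2,8,19,12,16,6,14,19,4,18,12,1,1,15,2,17,19,15,18,18],[12,16,0,19,8,0,12,19,4,18,15,16,19,12,15,18,18,12,2,14,19,4,18,12,14,18,16,2,14,0,0,18,18],[2,16,19,0,10,0,10,18,14,19,4,18,12,8,19,12,16,6,12,19,19,14,12,14,18,16,2,14,0,0,18,18],[14,18,2,19,0,17,12,15,18,18,12,17,14,2,8,19,12,16,6,14,19,4,18,12,18,18],[1,8,17,14,10,0,14,19,4,18,12,17,18,18,16,14,19,4,18,12,14,18,16,2,14,0,0,18,18]]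
noncomputable abbrev l1 : List Net := l ++ l2
theorem ag0 : band (lall (fun a => Nat.blt a (2 * (l.length + 0))) (wordAt U1 0))
    (agreeS l1 l1 122760 17 (wordAt U1 0) [2 * (l.length + 0)]) = true := by decide +kernel
theorem ag1 : band (lall (fun a => Nat.blt a (2 * (l.length + 1))) (wordAt U1 1))
    (agreeS l1 l1 122760 17 (wordAt U1 1) [2 * (l.length + 1)]) = true := by decide +kernel
theorem ag2 : band (lall (fun a => Nat.blt a (2 * (l.length + 2))) (wordAt U1 2))
    (agreeS l1 l1 122760 17 (wordAt U1 2) [2 * (l.length + 2)]) = true := by decide +kernel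
theorem ag3 : band (lall (fun a => Nat.blt a (2 * (l.length + 3))) (wordAt U1 3))
    (agreeS l1 l1 122760 17 (wordAt U1 3) [2 * (l.length + 3)]) = true := by decide +kernel
theorem ag4 : band (lall (fun a => Nat.blt a (2 * (l.length + 4))) (wordAt U1 4))
    (agreeS l1 l1 122760 17 (wordAt U1 4) [2 * (l.length + 4)]) = true := by decide +kernel
theorem ag5 : band (lall (fun a => Nat.blt a (2 * (l.length + 5))) (wordAt U1 5))
    (agreeS l1 l1 122760 17 (wordAt U1 5) [2 * (l.length + 5)]) = true := by decide +kernel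
theorem ag6 : band (lall (fun a => Nat.blt a (2 * (l.length + 6))) (wordAt U1 6))
    (agreeS l1 l1 122760 17 (wordAt U1 6) [2 * (l.length + 6)]) = true := by decide +kernel
theorem ag7 : band (lall (fun a => Nat.blt a (2 * (l.length + 7))) (wordAt U1 7))
    (agreeS l1 l1 122760 17 (wordAt U1 7) [2 * (l.length + 7)]) = true := by decide +kernel
theorem ag8 : band (lall (fun a => Nat.blt a (2 * (l.length + 8))) (wordAt U1 8))
    (agreeS l1 l1 122760 17 (wordAt U1 8) [2 * (l.length + 8)]) = true := by decide +kernel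
theorem ag9 : band (lall (fun a => Nat.blt a (2 * (l.length + 9))) (wordAt U1 9))
    (agreeS l1 l1 122760 17 (wordAt U1 9) [2 * (l.length + 9)]) = true := by decide +kernel
theorem ag10 : band (lall (fun a => Nat.blt a (2 * (l.length + 10))) (wordAt U1 10))
    (agreeS l1 l1 122760 17 (wordAt U1 10) [2 * (l.length + 10)]) = true := by decide +kernel
theorem ex1 : ∃ g' : Nat → Cfsg.Spor.ON, Md (finPt 122760) 122760 g' l1 7 460815505920 bs :=
  M0.slp 17 l2 U1 (by decide +kernel) (show ∀ j < 11, _ from by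
  intro j hj
  interval_cases j
  · exact ag0
  · exact ag1
  · exact ag2
  · exact ag3
  · exact ag4
  · exact ag5
  · exact ag6
  · exact ag7
  · exact ag8
  · exact ag9
  · exact ag10)
noncomputable def g1 : Nat → Cfsg.Spor.ON := ex1.choose
theorem M1 : Md (finPt 122760) 122760 g1 l1 7 460815505920 bs := ex1.choose_spec
def x : List Nat := [14]
def y : List Nat := [18]
def t : List Nat := [20]

end CfsgH7.ON.Ou
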